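import Groth.Agent.H17.AssTensorS
import Groth.Agent.H06EGA9.StructureStalk
import Groth.Agent.H10Coh.Proper
import Mathlib

/-!
# Reduced modules: structure module and flat inverse images
-/

set_option autoImplicit false
set_option linter.style.haveILetI false
set_option backward.isDefEq.respectTransparency false

universe u

open CategoryTheory CategoryTheory.Limits AlgebraicGeometry IsLocalRing

namespace Groth.Agent.H06RedMod

theorem length_congr {X : Scheme.{u}} {M N : X.Modules} (e : M ≅ N) (x : X) :
    Module.length (X.presheaf.stalk x) (M.presheaf.stalk x) =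
      Module.length (X.presheaf.stalk x) (N.presheaf.stalk x) :=
  (H06EGA9.stalkIso e x).length_eq

theorem isReducedMod_congr {X : Scheme.{u}} {M N : X.Modules} (e : M ≅ N) :
    AssSch.IsReducedMod M ↔ AssSch.IsReducedMod N := by
  simp only [AssSch.IsReducedMod, AssSch.NoEmbedded, H17.AssTensorS.ass_congr e, length_congr e]

/-- The stalk of the structure module. -/
noncomputable def oneEquiv {X : Scheme.{u}} (x : X) :
    X.presheaf.stalk x ≃ₗ[X.presheaf.stalk x] (Coh.structureModule X).presheaf.stalk x :=
  LinearEquiv.ofBijective (LinearMap.toSpanSingleton _ _ (H06EGA9.oneStalk x))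
    (H06EGA9.bijective_smul_oneStalk x)

theorem mem_support_structureModule {X : Scheme.{u}} (x : X) :
    x ∈ CohB1.support (Coh.structureModule X) := fun h => by
  haveI := h
  exact not_subsingleton (X.presheaf.stalk x) (oneEquiv x).injective.subsingleton

theorem isField_iff_length_eq_one {A : Type u} [CommRing A] : IsField A ↔ Module.length A A = 1 := by
  rw [Module.length_eq_one_iff, isSimpleModule_iff]
  exact Ring.isField_iff_isSimpleOrder_ideal

theorem eq_of_isField {X : Scheme.{u}} {x : X} (h : IsField (X.presheaf.stalk x)) {y : X}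
    (hy : y ⤳ x) : y = x := by
  obtain ⟨q, rfl⟩ : y ∈ Set.range (X.fromSpecStalk x) := by rw [Scheme.range_fromSpecStalk]; exact hy
  have : q = closedPoint (X.presheaf.stalk x) := PrimeSpectrum.ext ((le_maximalIdeal q.2.ne_top).antisymm
    ((IsLocalRing.isField_iff_maximalIdeal_eq.1 h).le.trans bot_le))
  rw [this, Scheme.fromSpecStalk_closedPoint]

theorem isField_of_mem_ass {X : Scheme.{u}} {x : X} [_root_.IsReduced (X.presheaf.stalk x)]
    (hx : x ∈ AssSch.Ass (Coh.structureModule X)) : IsField (X.presheaf.stalk x) := by
  have h : maximalIdeal (X.presheaf.stalk x) ∈ associatedPrimes (X.presheaf.stalk x) (X.presheaf.stalk x) := by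
    rw [LinearEquiv.AssociatedPrimes.eq (oneEquiv x)]
    exact hx
  obtain ⟨-, m, hm⟩ := h
  refine IsLocalRing.isField_iff_maximalIdeal_eq.2 (le_bot_iff.1 fun r hr => (Submodule.mem_bot _).2 ?_)
  have hm' : ∀ a ∈ maximalIdeal (X.presheaf.stalk x), a * m = 0 := fun a ha => by
    rw [hm] at ha
    obtain ⟨n, hn⟩ := ha
    rw [Submodule.mem_colon_singleton, Submodule.mem_bot, smul_eq_mul] at hn
    refine IsReduced.eq_zero _ ⟨n + 1, ?_⟩
    calc (a * m) ^ (n + 1) = a ^ n * m * (a * m ^ n) := by ring
      _ = 0 := by rw [hn, zero_mul]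
  by_cases hu : IsUnit m
  · exact (hu.mul_left_eq_zero).1 (hm' r hr)
  · have h0 : m = 0 := IsReduced.eq_zero m ⟨2, by rw [pow_two]; exact hm' m hu⟩
    subst h0
    exact absurd (hm.trans (Ideal.radical_eq_top.2 (by ext; simp [Submodule.mem_colon_singleton])))
      (maximalIdeal.isMaximal _).ne_top

/-- The structure module is reduced exactly when the scheme is reduced. -/
theorem isReducedMod_structureModule_iff (X : Scheme.{u}) :
    AssSch.IsReducedMod (Coh.structureModule X) ↔ IsReduced X := by
  constructor
  · rintro ⟨-, hlen⟩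
    haveI : ∀ y : X, _root_.IsReduced (X.presheaf.stalk y) := fun y => ⟨fun a ha => by
      by_contra hne
      obtain ⟨U, hyU, s, rfl⟩ := X.presheaf.exists_germ_eq a
      obtain ⟨V, hV, hyV, hVU⟩ := exists_isAffineOpen_mem_and_subset (U := U) (x := y) hyU
      let t := X.presheaf.map (homOfLE hVU).op s
      have ht : X.presheaf.germ V y hyV t = X.presheaf.germ U y hyU s := X.presheaf.germ_res_apply _ _ _ _
      have h0 : (Coh.structureModule X).presheaf.germ V y hyV t ≠ 0 := fun h => hne
        (ht.symm.trans ((H29Blow.germ_structureModule_eq_zero_iff hyV t).1 h))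
      obtain ⟨z, hzV, hz, hzy, hz0⟩ :=
        H17.AssPts.exists_ass_specializes_of_germ _ (H10Coh.isCoh_structureModule' X).1 hV hyV h0
      refine hz0 ((H29Blow.germ_structureModule_eq_zero_iff hzV t).2 ?_)
      have hf : IsField (X.presheaf.stalk z) := isField_iff_length_eq_one.2
        ((oneEquiv z).length_eq.trans (hlen z hz))
      letI := hf.toField
      refine IsReduced.eq_zero _ ?_
      rw [← X.presheaf.germ_stalkSpecializes_apply hyV hzy t, ht]
      exact ha.map _⟩
    exact isReduced_of_isReduced_stalk X
  · intro h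
    exact ⟨fun x hx y _ hyx => (eq_of_isField (isField_of_mem_ass hx) hyx).symm,
      fun x hx => (oneEquiv x).symm.length_eq.trans (isField_iff_length_eq_one.1 (isField_of_mem_ass hx))⟩

/-- A flat inverse image is a reduced module iff the module is reduced over the image and the
corresponding fibres are reduced schemes. -/
theorem isReducedMod_flat_pullback_iff {W Z : Scheme.{u}} (π : W ⟶ Z) [Flat π] [IsLocallyNoetherian Z]
    (F : Z.Modules) (hF : Coh.IsCoh F) :
    AssSch.IsReducedMod ((Scheme.Modules.pullback π).obj F) ↔
      ∀ z ∈ AssSch.Ass F ∩ Set.range π,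
        (∀ z' ∈ AssSch.Ass F, z' ⤳ z → z' = z) ∧
          Module.length (Z.presheaf.stalk z) (F.presheaf.stalk z) = 1 ∧ IsReduced (π.fiber z) := by
  have hO := H10Coh.isCoh_structureModule' W
  have hs : (π.base : W → Z) '' CohB1.support (Coh.structureModule W) = Set.range π := by
    rw [show CohB1.support (Coh.structureModule W) = Set.univ from
      Set.eq_univ_of_forall mem_support_structureModule, Set.image_univ]
  rw [← isReducedMod_congr (H10Coh.Tw.rightUnitIso ((Scheme.Modules.pullback π).obj F)),
    H17.AssFlat.isReducedMod_iff π F (Coh.structureModule W) hF.2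
      (fun x => (H06EGA9.isFlatOverAt_structureModule_iff π x).2 (Flat.stalkMap π x)) hO.1 hO.2, hs]
  refine forall₂_congr fun z _ => and_congr Iff.rfl (and_congr Iff.rfl ?_)
  rw [isReducedMod_congr (H16Derived.KFlat.Stalk.structurePullbackIso (π.fiberι z)),
    isReducedMod_structureModule_iff]

end Groth.Agent.H06RedMod
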