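import Groth.Agent.H06Red.Scheme
import Groth.Prelude.Def_FDesc
import Mathlib

/-!
# Geometric reducedness from purely inseparable extensions
-/

set_option autoImplicit false
set_option linter.style.haveILetI false
set_option backward.isDefEq.respectTransparency false

universe u

open CategoryTheory CategoryTheory.Limits AlgebraicGeometry TensorProduct

namespace Groth.Agent.H06RedMod

variable {k : Type u} [Field k]

/-- Reducedness over all finite purely inseparable extensions gives geometric reducedness. -/
theorem isGeometricallyReduced_of_forall_purelyInseparable (A : Type u) [CommRing A] [Algebra k A]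
    (h : ∀ (k' : Type u) [Field k'] [Algebra k k'] [FiniteDimensional k k'] [IsPurelyInseparable k k'],
      _root_.IsReduced (A ⊗[k] k')) : Algebra.IsGeometricallyReduced k A := by
  rw [Algebra.isGeometricallyReduced_field_iff]
  let kb := AlgebraicClosure k
  let P : IntermediateField k kb := perfectClosure k kb
  have h1 : _root_.IsReduced (A ⊗[k] P) := by
    refine H06Red.isReduced_of_subalgebras k A P fun C _ _ hC f hf => ?_
    haveI : IsDomain C := hf.isDomain f.toRingHom
    haveI : Algebra.IsIntegral k C :=
      ⟨fun x => (isIntegral_algHom_iff f hf).1 (Algebra.IsIntegral.isIntegral (f x))⟩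
    letI : Field C := (isField_of_isIntegral_of_isField' (Field.toIsField k) : IsField C).toField
    haveI : Module.Finite k C := Algebra.IsIntegral.finite
    letI := f.toRingHom.toAlgebra
    haveI : IsScalarTower k C P := IsScalarTower.of_algebraMap_eq fun r => (f.commutes r).symm
    haveI : IsPurelyInseparable k C := IsPurelyInseparable.tower_bot k C P
    exact h C
  haveI : _root_.IsReduced (P ⊗[k] A) := H06Red.isReduced_comm k A P h1
  haveI := H06Red.isGeometricallyReduced_of_perfectField P (P ⊗[k] A)
  haveI := H06Red.isReduced_field_tensor P (P ⊗[k] A) kb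
  exact isReduced_of_injective
    (Algebra.TensorProduct.cancelBaseChange k P P kb A).symm.toRingEquiv.toRingHom
    (Algebra.TensorProduct.cancelBaseChange k P P kb A).symm.injective

instance surjective_specMap (K : Type u) [Field K] [Algebra k K] :
    Surjective (Spec.map (CommRingCat.ofHom (algebraMap k K))) :=
  ⟨fun _ => ⟨⟨⊥, Ideal.isPrime_bot⟩, Subsingleton.elim (h := inferInstanceAs (Subsingleton (PrimeSpectrum k))) _ _⟩⟩

instance flat_specMap (K : Type u) [Field K] [Algebra k K] :
    Flat (Spec.map (CommRingCat.ofHom (algebraMap k K))) := by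
  rw [HasRingHomProperty.Spec_iff (P := @Flat)]
  exact RingHom.flat_algebraMap_iff.2 inferInstance

instance locallyOfFiniteType_specMap (K : Type u) [Field K] [Algebra k K] [FiniteDimensional k K] :
    LocallyOfFiniteType (Spec.map (CommRingCat.ofHom (algebraMap k K))) := by
  rw [HasRingHomProperty.Spec_iff (P := @LocallyOfFiniteType)]
  exact RingHom.finiteType_algebraMap.2 inferInstance

variable {X : Scheme.{u}} (f : X ⟶ Spec (CommRingCat.of k))

instance surjective_bcπ (K : Type u) [Field K] [Algebra k K] : Surjective (FBase.bcπ f K) :=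
  MorphismProperty.pullback_fst _ _ (surjective_specMap K)

instance flat_bcπ (K : Type u) [Field K] [Algebra k K] : Flat (FBase.bcπ f K) :=
  MorphismProperty.pullback_fst _ _ (flat_specMap K)

theorem isLocallyNoetherian_bc [IsLocallyNoetherian X] (K : Type u) [Field K] [Algebra k K]
    [FiniteDimensional k K] : IsLocallyNoetherian (FBase.bc f K) := by
  haveI : LocallyOfFiniteType (FBase.bcπ f K) :=
    MorphismProperty.pullback_fst _ _ (locallyOfFiniteType_specMap K)
  exact LocallyOfFiniteType.isLocallyNoetherian (FBase.bcπ f K)

/-- The fibre of a base change to a field is the spectrum of a tensor product. -/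
theorem nonempty_fiberIso (x : X) (φ : CommRingCat.of k ⟶ X.residueField x)
    (hφ : Spec.map φ = X.fromSpecResidueField x ≫ f) (K : Type u) [Field K] [Algebra k K] :
    letI := φ.hom.toAlgebra
    Nonempty ((FBase.bcπ f K).fiber x ≅ Spec (CommRingCat.of (X.residueField x ⊗[k] K))) := by
  letI := φ.hom.toAlgebra
  exact ⟨pullbackSymmetry (FBase.bcπ f K) (X.fromSpecResidueField x) ≪≫
    pullbackRightPullbackFstIso f _ (X.fromSpecResidueField x) ≪≫
    pullback.congrHom hφ.symm rfl ≪≫ pullbackSpecIso k (X.residueField x) K⟩

theorem isReduced_fiber_iff (x : X) (φ : CommRingCat.of k ⟶ X.residueField x)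
    (hφ : Spec.map φ = X.fromSpecResidueField x ≫ f) (K : Type u) [Field K] [Algebra k K] :
    letI := φ.hom.toAlgebra
    IsReduced ((FBase.bcπ f K).fiber x) ↔ _root_.IsReduced (X.residueField x ⊗[k] K) := by
  letI := φ.hom.toAlgebra
  obtain ⟨e⟩ := nonempty_fiberIso f x φ hφ K
  exact ⟨fun h => (affine_isReduced_iff _).1 (isReduced_of_isOpenImmersion e.inv),
    fun h => haveI := (affine_isReduced_iff (CommRingCat.of (X.residueField x ⊗[k] K))).2 h
      isReduced_of_isOpenImmersion e.hom⟩

end Groth.Agent.H06RedMod
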