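import Groth.Agent.H06RedMod.Basic
import Groth.Agent.H06RedMod.GeomRed
import Groth.Agent.H06Geom.NoEmbedded
import Groth.Agent.H19Grp.AlgClosedGeom

/-!
# Integral modules and field extensions
-/

set_option autoImplicit false
set_option linter.style.haveILetI false
set_option backward.isDefEq.respectTransparency false

universe u

open CategoryTheory CategoryTheory.Limits AlgebraicGeometry TensorProduct

namespace Groth.Agent.H06RedMod

variable {k : Type u} [Field k]

/-- A field extension staying a domain over all finite extensions stays one over all extensions. -/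
theorem isDomain_tensor_of_forall_finite (A : Type u) [Field A] [Algebra k A]
    (h : ∀ (k' : Type u) [Field k'] [Algebra k k'] [FiniteDimensional k k'], IsDomain (A ⊗[k] k'))
    (K : Type u) [Field K] [Algebra k K] : IsDomain (A ⊗[k] K) := by
  let kb := AlgebraicClosure k
  let r : ∀ L : IntermediateField k kb, A ⊗[k] L →ₐ[A] A ⊗[k] kb := fun L =>
    Algebra.TensorProduct.map (AlgHom.id A A) L.val
  have hr : ∀ L, Function.Injective (r L) := fun L =>
    Module.Flat.lTensor_preserves_injective_linearMap L.val.toLinearMap L.val.injective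
  have hmono : ∀ {L L' : IntermediateField k kb}, L ≤ L' → ∀ x ∈ Set.range (r L), x ∈ Set.range (r L') := by
    intro L L' hL x ⟨y, hy⟩
    refine ⟨Algebra.TensorProduct.map (AlgHom.id A A) (IntermediateField.inclusion hL) y, hy ▸ ?_⟩
    clear hy
    induction y using TensorProduct.induction_on with
    | zero => simp
    | tmul a b => rfl
    | add x y hx hy => simp only [map_add, hx, hy]
  have hex : ∀ x : A ⊗[k] kb, ∃ L : IntermediateField k kb, FiniteDimensional k L ∧ x ∈ Set.range (r L) := by
    intro x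
    induction x using TensorProduct.induction_on with
    | zero => exact ⟨⊥, inferInstance, 0, map_zero _⟩
    | tmul a b =>
      refine ⟨IntermediateField.adjoin k {b}, IntermediateField.adjoin.finiteDimensional
        (Algebra.IsIntegral.isIntegral b), a ⊗ₜ ⟨b, IntermediateField.mem_adjoin_simple_self k b⟩, rfl⟩
    | add x y hx hy =>
      obtain ⟨L, hL, hx⟩ := hx
      obtain ⟨L', hL', hy⟩ := hy
      haveI := hL; haveI := hL'
      obtain ⟨a, rfl⟩ := hmono (le_sup_left : L ≤ L ⊔ L') x hx
      obtain ⟨b, rfl⟩ := hmono (le_sup_right : L' ≤ L ⊔ L') y hy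
      exact ⟨L ⊔ L', IntermediateField.finiteDimensional_sup L L', a + b, map_add _ _ _⟩
  haveI : Nontrivial (A ⊗[k] kb) :=
    haveI := h (⊥ : IntermediateField k kb)
    (hr ⊥).nontrivial
  haveI : NoZeroDivisors (A ⊗[k] kb) := ⟨fun {x y} hxy => by
    obtain ⟨L, hL, hx⟩ := hex x
    obtain ⟨L', hL', hy⟩ := hex y
    haveI := IntermediateField.finiteDimensional_sup L L'
    haveI : IsDomain (A ⊗[k] ↥(L ⊔ L')) := h _
    obtain ⟨a, rfl⟩ := hmono (le_sup_left : L ≤ L ⊔ L') x hx
    obtain ⟨b, rfl⟩ := hmono (le_sup_right : L' ≤ L ⊔ L') y hy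
    have h1 : a * b = 0 := hr (L ⊔ L') ((map_mul _ a b).trans (hxy.trans (map_zero _).symm))
    rcases @eq_zero_or_eq_zero_of_mul_eq_zero _ _ _ (IsDomain.to_noZeroDivisors _) a b h1 with h0 | h0
    · exact Or.inl (by rw [h0, map_zero])
    · exact Or.inr (by rw [h0, map_zero])⟩
  haveI : IsDomain (A ⊗[k] kb) := NoZeroDivisors.to_isDomain _
  let Ω := AlgebraicClosure K
  let i : kb →ₐ[k] Ω := IsAlgClosed.lift
  letI := i.toRingHom.toAlgebra
  haveI : IsScalarTower k kb Ω := IsScalarTower.of_algebraMap_eq fun r => (i.commutes r).symm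
  haveI : IsDomain (kb ⊗[k] A) := (Algebra.TensorProduct.comm k kb A).injective.isDomain
  haveI : IsDomain (Ω ⊗[kb] (kb ⊗[k] A)) := H19Grp.isDomain_tensorProduct (k := kb) Ω (kb ⊗[k] A)
  haveI : IsDomain (Ω ⊗[k] A) :=
    (Algebra.TensorProduct.cancelBaseChange k kb kb Ω A).symm.injective.isDomain
  haveI : IsDomain (K ⊗[k] A) := by
    refine Function.Injective.isDomain
      (f := Algebra.TensorProduct.map (IsScalarTower.toAlgHom k K Ω) (AlgHom.id k A)) ?_
    exact Module.Flat.rTensor_preserves_injective_linearMap _ (algebraMap K Ω).injective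
  exact (Algebra.TensorProduct.comm k A K).injective.isDomain

/-- A reduced affine scheme has exactly one associated point iff the ring is a domain. -/
theorem isIntegral_iff_ass_eq_singleton (X : Scheme.{u}) [IsReduced X] :
    IsIntegral X ↔ ∃ x, AssSch.Ass (Coh.structureModule X) = {x} := by
  constructor
  · intro h
    refine ⟨genericPoint X, Set.eq_singleton_iff_unique_mem.2 ⟨?_, fun x hx => ?_⟩⟩
    · exact H17.AssPts.genericPoint_mem_ass (H8Props.mem_genericPoints_iff.2 fun y hy =>
        hy.antisymm (genericPoint_specializes y) |>.eq)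
    · exact (H06Geom.ass_of_isIntegral hx (genericPoint_specializes x)).symm
  · rintro ⟨x, hx⟩
    have hsp : ∀ y : X, x ⤳ y := fun y => by
      obtain ⟨η, hη, hηy⟩ := H8Props.exists_genericPoints_specializes y
      have : η ∈ ({x} : Set X) := hx ▸ H17.AssPts.genericPoint_mem_ass hη
      exact this ▸ hηy
    haveI : Nonempty X := ⟨x⟩
    haveI : IrreducibleSpace X := by
      have : closure {x} = (Set.univ : Set X) := Set.eq_univ_of_forall fun y => (hsp y).mem_closure
      have hi : IsIrreducible (Set.univ : Set X) := this ▸ isIrreducible_singleton.closure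
      exact { toNonempty := ⟨x⟩, isPreirreducible_univ := hi.2 }
    exact isIntegral_of_irreducibleSpace_of_isReduced X

/-- When a flat inverse image has a single associated point of multiplicity one. -/
theorem integralMod_flat_pullback_iff {W Z : Scheme.{u}} (π : W ⟶ Z) [Flat π] [Surjective π]
    [IsLocallyNoetherian Z] (F : Z.Modules) (hF : Coh.IsCoh F) :
    (∃ x', AssSch.Ass ((Scheme.Modules.pullback π).obj F) = {x'} ∧
        Module.length (W.presheaf.stalk x') (((Scheme.Modules.pullback π).obj F).presheaf.stalk x') = 1) ↔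
      ∃ z, AssSch.Ass F = {z} ∧ Module.length (Z.presheaf.stalk z) (F.presheaf.stalk z) = 1 ∧
        IsIntegral (π.fiber z) := by
  have hmem := H17.AssTensorS.mem_ass_flat_pullback_iff π F (fun z => inferInstance)
  have hπ : ∀ z (v : π.fiber z), π (π.fiberι z v) = z := fun z v => (π.range_fiberι z).subset ⟨v, rfl⟩
  have hv : ∀ z, ∃ v, v ∈ AssSch.Ass (Coh.structureModule (π.fiber z)) := fun z => by
    obtain ⟨w, hw⟩ := π.surjective z
    obtain ⟨v, -⟩ : w ∈ Set.range (π.fiberι z) := by rw [π.range_fiberι]; exact hw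
    obtain ⟨η, hη, -⟩ := H8Props.exists_genericPoints_specializes v
    exact ⟨η, H17.AssPts.genericPoint_mem_ass hη⟩
  constructor
  · rintro ⟨x', hA, hlen⟩
    have hred : AssSch.IsReducedMod ((Scheme.Modules.pullback π).obj F) :=
      ⟨fun a ha b hb _ => (hA.subset ha : a = x').trans (hA.subset hb : b = x').symm,
        fun a ha => (hA.subset ha : a = x') ▸ hlen⟩
    have huniq : ∀ z ∈ AssSch.Ass F, ∀ v ∈ AssSch.Ass (Coh.structureModule (π.fiber z)),
        π.fiberι z v = x' := fun z hz v hv => hA.subset ((hmem _).2 ⟨z, hz, v, hv, rfl⟩)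
    obtain ⟨z, hz, v, hv', hzv⟩ := (hmem x').1 (hA.symm.subset rfl)
    obtain ⟨-, h2, h3⟩ := (isReducedMod_flat_pullback_iff π F hF).1 hred z ⟨hz, π.surjective z⟩
    refine ⟨z, Set.eq_singleton_iff_unique_mem.2 ⟨hz, fun z' hz' => ?_⟩, h2, ?_⟩
    · obtain ⟨v', hv'⟩ := hv z'
      rw [← hπ z' v', huniq z' hz' v' hv', ← hzv, hπ]
    · haveI := h3
      exact (isIntegral_iff_ass_eq_singleton _).2 ⟨v, Set.eq_singleton_iff_unique_mem.2 ⟨hv', fun v₂ h₂ =>
        (π.fiberι z).isEmbedding.injective ((huniq z hz v₂ h₂).trans hzv.symm)⟩⟩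
  · rintro ⟨z, hA, hlen, hint⟩
    obtain ⟨v, hv'⟩ := (isIntegral_iff_ass_eq_singleton (π.fiber z)).1 hint
    have hA' : AssSch.Ass ((Scheme.Modules.pullback π).obj F) = {π.fiberι z v} := by
      refine Set.eq_singleton_iff_unique_mem.2 ⟨(hmem _).2 ⟨z, hA.symm.subset rfl, v, hv'.symm.subset rfl, rfl⟩,
        fun w hw => ?_⟩
      obtain ⟨z', hz', v', hv'', rfl⟩ := (hmem w).1 hw
      obtain rfl : z' = z := hA.subset hz'
      rw [show v' = v from hv'.subset hv'']
    refine ⟨_, hA', ((isReducedMod_flat_pullback_iff π F hF).2 fun z' hz' => ?_).2 _ (hA'.symm.subset rfl)⟩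
    obtain rfl : z' = z := hA.subset hz'.1
    exact ⟨fun z'' h _ => hA.subset h, hlen, inferInstance⟩

theorem isIntegral_fiber_iff {X : Scheme.{u}} (f : X ⟶ Spec (CommRingCat.of k)) (x : X)
    (φ : CommRingCat.of k ⟶ X.residueField x) (hφ : Spec.map φ = X.fromSpecResidueField x ≫ f)
    (K : Type u) [Field K] [Algebra k K] :
    letI := φ.hom.toAlgebra
    IsIntegral ((FBase.bcπ f K).fiber x) ↔ IsDomain (X.residueField x ⊗[k] K) := by
  letI := φ.hom.toAlgebra
  obtain ⟨e⟩ := nonempty_fiberIso f x φ hφ K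
  refine Iff.trans ?_ (affine_isIntegral_iff (CommRingCat.of (X.residueField x ⊗[k] K)))
  constructor
  · intro h
    haveI : Nonempty ↥(Spec (CommRingCat.of (X.residueField x ⊗[k] K))) := h.nonempty.map e.hom
    exact isIntegral_of_isOpenImmersion e.inv
  · intro h
    haveI : Nonempty ↥((FBase.bcπ f K).fiber x) := h.nonempty.map e.inv
    exact isIntegral_of_isOpenImmersion e.hom

end Groth.Agent.H06RedMod
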