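import Groth.Agent.H06RedMod.Basic
import Groth.Agent.H06RedMod.GeomRed
import Groth.Agent.H28Int.FieldExt
import Groth.Agent.H29Fitt.PullbackQCoh

/-!
# Tensor products of reduced modules over a field
-/

set_option autoImplicit false
set_option linter.style.haveILetI false
set_option backward.isDefEq.respectTransparency false

universe u

open CategoryTheory CategoryTheory.Limits AlgebraicGeometry

namespace Groth.Agent.H06RedMod

variable {k : Type u} [Field k] {X Y : Scheme.{u}} (f : X ⟶ Spec (CommRingCat.of k))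
  (g : Y ⟶ Spec (CommRingCat.of k)) [IsLocallyNoetherian X] [IsLocallyNoetherian Y]

/-- At an associated point of a geometrically reduced module the residue field is geometrically reduced. -/
theorem geomReduced_of_mem_ass (F : X.Modules) (hF : Coh.IsCoh F)
    (h : ∀ (k' : Type u) [Field k'] [Algebra k k'] [FiniteDimensional k k'] [IsPurelyInseparable k k'],
      AssSch.IsReducedMod ((Scheme.Modules.pullback (FBase.bcπ f k')).obj F))
    (x : X) (hx : x ∈ AssSch.Ass F) :
    (∀ x' ∈ AssSch.Ass F, x' ⤳ x → x' = x) ∧ Module.length (X.presheaf.stalk x) (F.presheaf.stalk x) = 1 ∧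
      ∀ φ : CommRingCat.of k ⟶ X.residueField x, Spec.map φ = X.fromSpecResidueField x ≫ f →
        letI := φ.hom.toAlgebra; Algebra.IsGeometricallyReduced k (X.residueField x) := by
  obtain ⟨h1, h2, -⟩ := (isReducedMod_flat_pullback_iff (FBase.bcπ f k) F hF).1 (h k) x
    ⟨hx, (FBase.bcπ f k).surjective x⟩
  refine ⟨h1, h2, fun φ hφ => ?_⟩
  letI := φ.hom.toAlgebra
  exact isGeometricallyReduced_of_forall_purelyInseparable _ fun k' _ _ _ _ =>
    (isReduced_fiber_iff f x φ hφ k').1
      ((isReducedMod_flat_pullback_iff (FBase.bcπ f k') F hF).1 (h k') x ⟨hx, (FBase.bcπ f k').surjective x⟩).2.2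

theorem isReducedMod_tensor (F : X.Modules) (hF : Coh.IsCoh F) (G : Y.Modules) (hG : Coh.IsCoh G)
    (hFgr : ∀ (k' : Type u) [Field k'] [Algebra k k'] [FiniteDimensional k k'] [IsPurelyInseparable k k'],
      AssSch.IsReducedMod ((Scheme.Modules.pullback (FBase.bcπ f k')).obj F))
    (hGr : AssSch.IsReducedMod G) :
    AssSch.IsReducedMod (CohB1.tensorMod ((Scheme.Modules.pullback (pullback.fst f g)).obj F)
      ((Scheme.Modules.pullback (pullback.snd f g)).obj G)) := by
  let p := pullback.fst f g
  let q := pullback.snd f g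
  have hflat := H17.AssTensorS.isFlatOver_snd f g G (H28Int.FieldExt.isFlatOver_of_field g G)
  rw [H17.AssFlat.isReducedMod_iff p F _ hF.2 hflat (H29Fitt.isQCoh_pullback q G hG.1)
    (H29Fitt.isFT_pullback q G hG.1 hG.2)]
  rintro x ⟨hx, -⟩
  obtain ⟨h1, h2, h3⟩ := geomReduced_of_mem_ass f F hF hFgr x hx
  refine ⟨h1, h2, ?_⟩
  obtain ⟨φ, hφ⟩ := Spec.map_surjective (X.fromSpecResidueField x ≫ f)
  let j := p.fiberι x
  let tx := p.fiberToSpecResidueField x
  have hp : IsPullback j tx p (X.fromSpecResidueField x) := IsPullback.of_hasPullback _ _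
  have houter : IsPullback (j ≫ q) tx g (X.fromSpecResidueField x ≫ f) :=
    hp.paste_horiz (IsPullback.of_hasPullback f g).flip
  haveI : Flat (X.fromSpecResidueField x ≫ f) := by
    rw [← hφ, HasRingHomProperty.Spec_iff (P := @Flat)]
    algebraize [φ.hom]
    exact RingHom.flat_algebraMap_iff.2 inferInstance
  haveI : Flat (j ≫ q) := MorphismProperty.of_isPullback houter.flip inferInstance
  refine (isReducedMod_congr ((Scheme.Modules.pullbackComp j q).app G)).2 ?_
  rw [isReducedMod_flat_pullback_iff _ G hG]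
  rintro y ⟨hy, -⟩
  refine ⟨fun y' hy' hs => (hGr.1 y hy y' hy' hs).symm, hGr.2 y hy, ?_⟩
  obtain ⟨ψ, hψ⟩ := Spec.map_surjective (Y.fromSpecResidueField y ≫ g)
  have hfib : IsPullback ((j ≫ q).fiberι y) ((j ≫ q).fiberToSpecResidueField y) (j ≫ q)
      (Y.fromSpecResidueField y) := IsPullback.of_hasPullback _ _
  have hpaste := (hfib.paste_horiz houter.flip).flip
  haveI : IsReduced (Spec (Y.residueField y)) := inferInstance
  haveI : IsReduced (pullback (Spec.map ψ) (Spec.map φ)) :=
    H06Red.isReduced_Spec_pullback' ψ φ (h3 φ hφ) inferInstance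
  exact isReduced_of_isOpenImmersion (hpaste.isoPullback ≪≫ pullback.congrHom hψ.symm hφ.symm).hom

end Groth.Agent.H06RedMod
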